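import Mathlib.Algebra.MonoidAlgebra.MapDomain
import Mathlib.Algebra.MonoidAlgebra.Lift
import Mathlib.RingTheory.LocalRing.Module
import Mathlib.RingTheory.Flat.FaithfullyFlat.Basic
import Mathlib.RingTheory.LocalRing.ResidueField.Basic

/-!
# Group-like elements of group algebras (node ORTH of S14306): the algebra

* `orth`: the coefficients of a group-like element of `C[G]` are orthogonal idempotents;
* `eq_zero_of_idem`: an idempotent of a finite algebra over a local ring which vanishes over (an extension of) the
  residue field is zero.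
-/

set_option autoImplicit false
universe u v

noncomputable section

namespace K567.Orth

open MonoidAlgebra

section Alg

variable {C : Type u} [CommRing C] {G : Type v} [CommGroup G]

theorem coeff_prod (p q : MonoidAlgebra C G) (a b : G) :
    (mapDomain (fun g : G => (g, (1 : G))) p * mapDomain (fun g : G => ((1 : G), g)) q).coeff (a, b) =
      p.coeff a * q.coeff b := by
  classical
  induction p using MonoidAlgebra.induction_linear with
  | zero => simp
  | add p₁ p₂ h₁ h₂ => rw [mapDomain_add, add_mul, coeff_add, Finsupp.add_apply, h₁, h₂, coeff_add, Finsupp.add_apply, add_mul]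
  | single x r =>
    induction q using MonoidAlgebra.induction_linear with
    | zero => simp
    | add p₁ p₂ h₁ h₂ => rw [mapDomain_add, mul_add, coeff_add, Finsupp.add_apply, h₁, h₂, coeff_add, Finsupp.add_apply, mul_add]
    | single y s =>
      rw [mapDomain_single, mapDomain_single, single_mul_single, coeff_single, coeff_single, coeff_single,
        Finsupp.single_apply, Finsupp.single_apply, Finsupp.single_apply]
      by_cases h1 : x = a <;> by_cases h2 : y = b <;> simp [h1, h2]

theorem orth (h : MonoidAlgebra C G)
    (H : mapDomain (fun g : G => (g, g)) h =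
      mapDomain (fun g : G => (g, (1 : G))) h * mapDomain (fun g : G => ((1 : G), g)) h) (a b : G) (hab : a ≠ b) :
    h.coeff a * h.coeff b = 0 := by
  have h1 := congrArg (fun z => z.coeff (a, b)) H
  rw [coeff_prod] at h1
  rw [← h1]
  change (Finsupp.mapDomain (fun g : G => (g, g)) h.coeff) (a, b) = 0
  apply Finsupp.mapDomain_of_notMem_range
  rintro ⟨g, hg⟩
  exact hab ((congrArg Prod.fst hg).symm.trans (congrArg Prod.snd hg))

theorem aug_eq [Fintype G] (h : MonoidAlgebra C G) :
    (mapDomain (fun _ : G => (1 : G)) h).coeff 1 = ∑ g, h.coeff g := by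
  classical
  induction h using MonoidAlgebra.induction_linear with
  | zero => simp
  | add p q hp hq =>
    rw [mapDomain_add, coeff_add, Finsupp.add_apply, hp, hq, coeff_add, ← Finset.sum_add_distrib]
    rfl
  | single x r =>
    rw [mapDomain_single, coeff_single, coeff_single]
    simp [Finsupp.single_apply]

/-- A group-like element whose non-trivial coefficients vanish is `1`. -/
theorem eq_one [Fintype G] (h : MonoidAlgebra C G)
    (H : mapDomain (fun g : G => (g, g)) h =
      mapDomain (fun g : G => (g, (1 : G))) h * mapDomain (fun g : G => ((1 : G), g)) h)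
    (hs : ∑ g, h.coeff g = 1)
    (h0 : ∀ c : C, IsIdempotentElem c → ∀ g : G, g ≠ 1 → c = h.coeff g → c = 0) : h = 1 := by
  classical
  have hid : ∀ g : G, IsIdempotentElem (h.coeff g) := by
    intro g
    have h1 : h.coeff g * ∑ k, h.coeff k = h.coeff g * h.coeff g := by
      rw [Finset.mul_sum]
      rw [Finset.sum_eq_single g]
      · intro k _ hk
        exact orth h H g k (Ne.symm hk)
      · intro hg
        exact absurd (Finset.mem_univ g) hg
    rw [hs, mul_one] at h1
    exact h1.symm
  have hz : ∀ g : G, g ≠ 1 → h.coeff g = 0 := fun g hg => h0 _ (hid g) g hg rfl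
  have h1 : h.coeff 1 = 1 := by
    rw [← hs, Finset.sum_eq_single 1]
    · intro k _ hk
      exact hz k hk
    · intro hg
      exact absurd (Finset.mem_univ _) hg
  rw [one_def, ← coeff_inj, coeff_single]
  ext g
  by_cases hg : g = 1
  · rw [hg, h1, Finsupp.single_apply, if_pos rfl]
  · rw [hz g hg, Finsupp.single_apply, if_neg (Ne.symm hg)]

end Alg

section Loc

variable {R : Type u} [CommRing R] [IsLocalRing R] {κ : Type u} [Field κ]

open TensorProduct in
/-- Nakayama over an extension of the residue field. -/
theorem subsingleton_of_tensor [Algebra R κ] (hφ : RingHom.ker (algebraMap R κ) = IsLocalRing.maximalIdeal R)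
    (M : Type u) [AddCommGroup M] [Module R M] [Module.Finite R M] [h : Subsingleton (κ ⊗[R] M)] : Subsingleton M := by
  let k := IsLocalRing.ResidueField R
  let ψ : k →+* κ := Ideal.Quotient.lift _ (algebraMap R κ) (fun a ha => by
    rw [← hφ] at ha
    exact ha)
  let _ : Algebra k κ := ψ.toAlgebra
  have : IsScalarTower R k κ := IsScalarTower.of_algebraMap_eq (fun x => rfl)
  have e := TensorProduct.AlgebraTensorModule.cancelBaseChange R k κ κ M
  have : Subsingleton (κ ⊗[k] (k ⊗[R] M)) := e.toEquiv.subsingleton
  have : Subsingleton (k ⊗[R] M) := Module.FaithfullyFlat.lTensor_reflects_triviality k κ _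
  exact IsLocalRing.subsingleton_tensorProduct.mp this

/-- An idempotent of a finite algebra over a local ring which dies over an extension of the residue field is zero. -/
theorem eq_zero_of_idem {C : Type u} [CommRing C] [Algebra R C] [Module.Finite R C]
    [Algebra R κ] (hφ : RingHom.ker (algebraMap R κ) = IsLocalRing.maximalIdeal R) (c : C) (hc : IsIdempotentElem c)
    (h : (TensorProduct.tmul R (1 : κ) c) = 0) : c = 0 := by
  let I : Ideal C := Ideal.span {1 - c}
  have h1 : (Ideal.Quotient.mk I c) = 1 := by
    have : Ideal.Quotient.mk I (1 - c) = 0 := Ideal.Quotient.eq_zero_iff_mem.mpr (Ideal.mem_span_singleton_self _)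
    rw [map_sub, map_one] at this
    exact (sub_eq_zero.mp this).symm
  have h2 : (TensorProduct.tmul R (1 : κ) (1 : C ⧸ I)) = 0 := by
    rw [← h1]
    have := congrArg (LinearMap.lTensor κ (Ideal.Quotient.mkₐ R I).toLinearMap) h
    rw [map_zero, LinearMap.lTensor_tmul] at this
    exact this
  have : Subsingleton (TensorProduct R κ (C ⧸ I)) := by
    have : (1 : TensorProduct R κ (C ⧸ I)) = 0 := by rw [Algebra.TensorProduct.one_def, h2]
    exact subsingleton_of_zero_eq_one this.symm
  have := subsingleton_of_tensor hφ (C ⧸ I) (κ := κ)
  have h3 : I = ⊤ := Ideal.Quotient.subsingleton_iff.mp this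
  have h4 : IsUnit (1 - c) := Ideal.span_singleton_eq_top.mp h3
  have h5 : c * (1 - c) = 0 := by rw [mul_sub, mul_one, hc.eq, sub_self]
  exact (h4.mul_left_eq_zero).mp h5

end Loc

end K567.Orth
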