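import Groth.Agent.GrpSch.K270.MB.Shape3
import Groth.Agent.GrpSch.K567.OrthAlg

/-!
# Node ORTH of S14306

A pairing of `μ_N^r` with a finite group over a local ring, trivial over (an extension of) the residue field, is trivial.
-/

set_option autoImplicit false
universe u
open CategoryTheory CategoryTheory.Limits MonoidalCategory CartesianMonoidalCategory MonObj AlgebraicGeometry
open K270.MB

noncomputable section

namespace K567.Orth

section Coord

variable {S : Scheme.{u}} {N r : ℕ} {M : Over S} [GrpObj M] {χ : Fin r → U M}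

theorem mu_ext (hM : IsMu N r M χ) {T : Over S} {x x' : T ⟶ M} (h : ∀ j, ures x (χ j) = ures x' (χ j)) : x = x' := by
  have h1 : ∀ j, ures x' (χ j) ^ N = 1 := fun j => by rw [← map_pow, hM.pow, map_one]
  exact (hM.bij (fun j => ures x' (χ j)) h1).unique h (fun j => rfl)

theorem coord_one (hM : IsMu N r M χ) {T : Over S} (j : Fin r) : ures (1 : T ⟶ M) (χ j) = 1 := by
  have h := hM.mul (1 : T ⟶ M) 1 j
  rw [_root_.mul_one] at h
  exact left_eq_mul.mp h

/-- The point with given coordinates. -/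
def mpt (hM : IsMu N r M χ) {T : Over S} (v : Fin r → U T) (hv : ∀ j, v j ^ N = 1) : T ⟶ M :=
  (hM.bij v hv).choose

theorem coord_mpt (hM : IsMu N r M χ) {T : Over S} (v : Fin r → U T) (hv : ∀ j, v j ^ N = 1) (j : Fin r) :
    ures (mpt hM v hv) (χ j) = v j :=
  (hM.bij v hv).choose_spec.1 j

end Coord

section Pair

variable {S : Scheme.{u}} {M F : Over S} [GrpObj M] [GrpObj F]

theorem pair_one (E : Pairing M F) {T : Over S} (y : T ⟶ F) : E.e 1 y = 1 := by
  have h := E.mul_left (1 : T ⟶ M) 1 y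
  rw [_root_.mul_one] at h
  exact left_eq_mul.mp h

end Pair

section Ring

/-- Units of the spectrum of a ring. -/
def fn {S : Scheme.{u}} {D : CommRingCat.{u}} (t : Spec D ⟶ S) : U (Over.mk t) →* Dˣ :=
  Units.map ((Scheme.ΓSpecIso D).hom.hom : Γ(Spec D, ⊤) →* D)

/-- The unit on the spectrum. -/
def nf {S : Scheme.{u}} {D : CommRingCat.{u}} (t : Spec D ⟶ S) : Dˣ →* U (Over.mk t) :=
  Units.map ((Scheme.ΓSpecIso D).inv.hom : D →* Γ(Spec D, ⊤))

theorem fn_nf {S : Scheme.{u}} {D : CommRingCat.{u}} (t : Spec D ⟶ S) (d : Dˣ) : fn t (nf t d) = d := by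
  apply Units.ext
  change (Scheme.ΓSpecIso D).hom ((Scheme.ΓSpecIso D).inv (d : D)) = d
  rw [← CommRingCat.comp_apply, Iso.inv_hom_id]
  rfl

theorem nf_fn {S : Scheme.{u}} {D : CommRingCat.{u}} (t : Spec D ⟶ S) (d : U (Over.mk t)) : nf t (fn t d) = d := by
  apply Units.ext
  change (Scheme.ΓSpecIso D).inv ((Scheme.ΓSpecIso D).hom d.val) = d.val
  rw [← CommRingCat.comp_apply, Iso.hom_inv_id]
  rfl

theorem fn_inj {S : Scheme.{u}} {D : CommRingCat.{u}} (t : Spec D ⟶ S) {d d' : U (Over.mk t)} (h : fn t d = fn t d') :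
    d = d' := by rw [← nf_fn t d, h, nf_fn]

theorem fn_ures {S : Scheme.{u}} {D D' : CommRingCat.{u}} (t : Spec D ⟶ S) (t' : Spec D' ⟶ S) (f : D ⟶ D')
    (g : Over.mk t' ⟶ Over.mk t) (hg : g.left = Spec.map f) (u : U (Over.mk t)) :
    fn t' (ures g u) = Units.map (f.hom : D →* D') (fn t u) := by
  apply Units.ext
  change (Scheme.ΓSpecIso D').hom (g.left.appTop u.val) = f ((Scheme.ΓSpecIso D).hom u.val)
  rw [hg, ← CommRingCat.comp_apply, ← CommRingCat.comp_apply]
  congr 2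
  exact Scheme.ΓSpecIso_naturality f

end Ring

section Main

variable {R : Type u} [CommRing R] {F : Over (Spec (CommRingCat.of R))} [IsAffine F.left]

/-- The structure morphism of the spectrum of an algebra over the ring of `F`. -/
abbrev tt (F : Over (Spec (CommRingCat.of R))) [IsAffine F.left] {D : CommRingCat.{u}} (a : Γ(F.left, ⊤) ⟶ D) :
    Spec D ⟶ Spec (CommRingCat.of R) := (Spec.map a ≫ F.left.isoSpec.inv) ≫ F.hom

/-- The point of `F`. -/
def yy {D : CommRingCat.{u}} (a : Γ(F.left, ⊤) ⟶ D) : Over.mk (tt F a) ⟶ F :=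
  Over.homMk (Spec.map a ≫ F.left.isoSpec.inv) rfl

/-- The transition. -/
def gg {D D' : CommRingCat.{u}} (a : Γ(F.left, ⊤) ⟶ D) (a' : Γ(F.left, ⊤) ⟶ D') (b : D ⟶ D') (h : a ≫ b = a') :
    Over.mk (tt F a') ⟶ Over.mk (tt F a) :=
  Over.homMk (Spec.map b) (by
    change Spec.map b ≫ (Spec.map a ≫ F.left.isoSpec.inv) ≫ F.hom = (Spec.map a' ≫ F.left.isoSpec.inv) ≫ F.hom
    rw [← h, Spec.map_comp, Category.assoc, Category.assoc, Category.assoc])

theorem gg_yy {D D' : CommRingCat.{u}} (a : Γ(F.left, ⊤) ⟶ D) (a' : Γ(F.left, ⊤) ⟶ D') (b : D ⟶ D') (h : a ≫ b = a') :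
    gg a a' b h ≫ yy a = yy a' := by
  apply Over.OverMorphism.ext
  change Spec.map b ≫ (Spec.map a ≫ F.left.isoSpec.inv) = Spec.map a' ≫ F.left.isoSpec.inv
  rw [← h, Spec.map_comp, Category.assoc]

theorem fn_gg {D D' : CommRingCat.{u}} (a : Γ(F.left, ⊤) ⟶ D) (a' : Γ(F.left, ⊤) ⟶ D') (b : D ⟶ D') (h : a ≫ b = a')
    (u : U (Over.mk (tt F a))) : fn (tt F a') (ures (gg a a' b h) u) = Units.map (b.hom : D →* D') (fn (tt F a) u) :=
  fn_ures _ _ b _ rfl u

/-- The classifying map of a point of `F` and a homomorphism to the functions. -/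
def qq {D : CommRingCat.{u}} (a : Γ(F.left, ⊤) ⟶ D) {T : Over (Spec (CommRingCat.of R))} (y : T ⟶ F)
    (b : D ⟶ Γ(T.left, ⊤)) (h : a ≫ b = y.left.appTop) : T ⟶ Over.mk (tt F a) :=
  Over.homMk (T.left.toSpecΓ ≫ Spec.map b) (by
    change (T.left.toSpecΓ ≫ Spec.map b) ≫ (Spec.map a ≫ F.left.isoSpec.inv) ≫ F.hom = T.hom
    have h1 : (T.left.toSpecΓ ≫ Spec.map b) ≫ (Spec.map a ≫ F.left.isoSpec.inv) = y.left := by
      rw [Category.assoc, ← Category.assoc (Spec.map b), ← Spec.map_comp, h, ← Category.assoc,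
        ← Scheme.toSpecΓ_naturality, Category.assoc, Scheme.toSpecΓ_isoSpec_inv, Category.comp_id]
    rw [← Category.assoc, h1, Over.w])

theorem qq_yy {D : CommRingCat.{u}} (a : Γ(F.left, ⊤) ⟶ D) {T : Over (Spec (CommRingCat.of R))} (y : T ⟶ F)
    (b : D ⟶ Γ(T.left, ⊤)) (h : a ≫ b = y.left.appTop) : qq a y b h ≫ yy a = y := by
  apply Over.OverMorphism.ext
  change (T.left.toSpecΓ ≫ Spec.map b) ≫ (Spec.map a ≫ F.left.isoSpec.inv) = y.left
  rw [Category.assoc, ← Category.assoc (Spec.map b), ← Spec.map_comp, h, ← Category.assoc,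
    ← Scheme.toSpecΓ_naturality, Category.assoc, Scheme.toSpecΓ_isoSpec_inv, Category.comp_id]

theorem ures_qq {D : CommRingCat.{u}} (a : Γ(F.left, ⊤) ⟶ D) {T : Over (Spec (CommRingCat.of R))} (y : T ⟶ F)
    (b : D ⟶ Γ(T.left, ⊤)) (h : a ≫ b = y.left.appTop) (u : U (Over.mk (tt F a))) :
    ures (qq a y b h) u = Units.map (b.hom : D →* Γ(T.left, ⊤)) (fn (tt F a) u) := by
  apply Units.ext
  change (T.left.toSpecΓ ≫ Spec.map b).appTop u.val = b ((Scheme.ΓSpecIso D).hom u.val)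
  rw [← CommRingCat.comp_apply]
  congr 2
  rw [Scheme.Hom.comp_appTop, Scheme.toSpecΓ_appTop]
  exact Scheme.ΓSpecIso_naturality b

variable {N r : ℕ} {M : Over (Spec (CommRingCat.of R))} [GrpObj M] [GrpObj F] {χ : Fin r → U M}

/-- The group algebra over the ring of `F`. -/
abbrev GA (F : Over (Spec (CommRingCat.of R))) (H : Type) [CommGroup H] : CommRingCat.{u} :=
  CommRingCat.of (MonoidAlgebra Γ(F.left, ⊤) H)

/-- Its structure map. -/
abbrev ga (F : Over (Spec (CommRingCat.of R))) (H : Type) [CommGroup H] : Γ(F.left, ⊤) ⟶ GA F H :=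
  CommRingCat.ofHom (MonoidAlgebra.singleOneRingHom (R := Γ(F.left, ⊤)) (M := H))

/-- The unit of the group algebra given by an element of the group. -/
def hu (F : Over (Spec (CommRingCat.of R))) {H : Type} [CommGroup H] (h : H) : (GA F H)ˣ :=
  Units.map (MonoidAlgebra.of Γ(F.left, ⊤) H) (toUnits h)

omit [IsAffine F.left] [GrpObj F] in
theorem hu_pow {H : Type} [CommGroup H] (h : H) (n : ℕ) (hn : h ^ n = 1) : hu F h ^ n = 1 := by
  rw [hu, ← map_pow, ← map_pow, hn, map_one, map_one]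

/-- The points of `M` with values in group algebras. -/
def xx (hM : IsMu N r M χ) {H : Type} [CommGroup H] (ρ : Fin r → H) (hρ : ∀ j, ρ j ^ N = 1) :
    Over.mk (tt F (ga F H)) ⟶ M :=
  mpt hM (fun j => nf _ (hu F (ρ j))) (fun j => by rw [← map_pow, hu_pow _ _ (hρ j), map_one])

omit [GrpObj F] in
theorem coord_xx (hM : IsMu N r M χ) {H : Type} [CommGroup H] (ρ : Fin r → H) (hρ : ∀ j, ρ j ^ N = 1) (j : Fin r) :
    ures (xx (F := F) hM ρ hρ) (χ j) = nf _ (hu F (ρ j)) :=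
  coord_mpt hM _ _ j

/-- The value of the pairing. -/
def ee (hM : IsMu N r M χ) (E : Pairing M F) {H : Type} [CommGroup H] (ρ : Fin r → H) (hρ : ∀ j, ρ j ^ N = 1) :
    (GA F H)ˣ :=
  fn _ (E.e (xx (F := F) hM ρ hρ) (yy (ga F H)))

omit [IsAffine F.left] [GrpObj F] in
theorem ga_map {H H' : Type} [CommGroup H] [CommGroup H'] (f : H →* H') :
    ga F H ≫ CommRingCat.ofHom (MonoidAlgebra.mapDomainRingHom Γ(F.left, ⊤) f) = ga F H' := by
  apply CommRingCat.hom_ext
  ext c : 1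
  change MonoidAlgebra.mapDomain f (MonoidAlgebra.single 1 c) = MonoidAlgebra.single 1 c
  rw [MonoidAlgebra.mapDomain_single, map_one]

theorem map_ee (hM : IsMu N r M χ) (E : Pairing M F) {H H' : Type} [CommGroup H] [CommGroup H'] (f : H →* H')
    (ρ : Fin r → H) (hρ : ∀ j, ρ j ^ N = 1) (ρ' : Fin r → H') (hρ' : ∀ j, ρ' j ^ N = 1) (h : ∀ j, f (ρ j) = ρ' j) :
    (ee hM E ρ' hρ').val = MonoidAlgebra.mapDomain f (ee hM E ρ hρ).val := by
  have h1 : gg (ga F H) (ga F H') _ (ga_map f) ≫ xx (F := F) hM ρ hρ = xx (F := F) hM ρ' hρ' := by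
    apply mu_ext hM
    intro j
    rw [ures_comp, coord_xx, coord_xx]
    apply fn_inj
    rw [fn_gg, fn_nf, fn_nf]
    apply Units.ext
    change MonoidAlgebra.mapDomain f (MonoidAlgebra.single (ρ j) 1) = MonoidAlgebra.single (ρ' j) 1
    rw [MonoidAlgebra.mapDomain_single, h]
  have h2 : ee hM E ρ' hρ' =
      Units.map ((CommRingCat.ofHom (MonoidAlgebra.mapDomainRingHom Γ(F.left, ⊤) f)).hom : GA F H →* GA F H')
        (ee hM E ρ hρ) := by
    rw [ee, ee, ← h1, ← gg_yy (ga F H) (ga F H') _ (ga_map f), E.nat, fn_gg]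
  rw [h2]
  rfl

theorem ee_mul (hM : IsMu N r M χ) (E : Pairing M F) {H : Type} [CommGroup H]
    (ρ ρ' ρ'' : Fin r → H) (hρ : ∀ j, ρ j ^ N = 1) (hρ' : ∀ j, ρ' j ^ N = 1) (hρ'' : ∀ j, ρ'' j ^ N = 1)
    (h : ∀ j, ρ'' j = ρ j * ρ' j) : ee hM E ρ'' hρ'' = ee hM E ρ hρ * ee hM E ρ' hρ' := by
  have h1 : xx (F := F) hM ρ'' hρ'' = xx (F := F) hM ρ hρ * xx (F := F) hM ρ' hρ' := by
    apply mu_ext hM
    intro j
    rw [hM.mul, coord_xx, coord_xx, coord_xx, ← map_mul, h]
    congr 1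
    rw [hu, hu, hu, map_mul, map_mul]
  rw [ee, h1, E.mul_left, map_mul]
  rfl

theorem ee_one (hM : IsMu N r M χ) (E : Pairing M F) {H : Type} [CommGroup H]
    (ρ : Fin r → H) (hρ : ∀ j, ρ j ^ N = 1) (h : ∀ j, ρ j = 1) : ee hM E ρ hρ = 1 := by
  have h1 := ee_mul hM E ρ ρ ρ hρ hρ hρ (fun j => by rw [h, _root_.mul_one])
  exact left_eq_mul.mp h1

/-- The universal group. -/
abbrev GG (N r : ℕ) : Type := Fin r → Multiplicative (ZMod N)

/-- Its generators. -/
abbrev rr (N r : ℕ) (j : Fin r) : GG N r := Pi.mulSingle j (Multiplicative.ofAdd 1)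

theorem rr_pow (N r : ℕ) (j : Fin r) : rr N r j ^ N = 1 := by
  rw [rr, ← Pi.mulSingle_pow, ← ofAdd_nsmul]
  simp

theorem ee_univ [NeZero N] (hM : IsMu N r M χ) (E : Pairing M F)
    (h0 : ∀ c : Γ(F.left, ⊤), IsIdempotentElem c → ∀ g : GG N r, g ≠ 1 →
      c = (ee hM E (rr N r) (rr_pow N r)).val.coeff g → c = 0) : (ee hM E (rr N r) (rr_pow N r)) = 1 := by
  apply Units.ext
  apply eq_one (C := Γ(F.left, ⊤)) (G := GG N r) _ _ _ h0
  · have h1 := map_ee hM E (MonoidHom.prod (MonoidHom.id (GG N r)) (MonoidHom.id (GG N r))) (rr N r) (rr_pow N r)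
      (fun j => (rr N r j, rr N r j)) (fun j => by rw [Prod.pow_mk, rr_pow]; rfl) (fun j => rfl)
    have h2 := map_ee hM E (MonoidHom.prod (MonoidHom.id (GG N r)) (1 : GG N r →* GG N r)) (rr N r) (rr_pow N r)
      (fun j => (rr N r j, 1)) (fun j => by rw [Prod.pow_mk, rr_pow, one_pow]; rfl) (fun j => rfl)
    have h3 := map_ee hM E (MonoidHom.prod (1 : GG N r →* GG N r) (MonoidHom.id (GG N r))) (rr N r) (rr_pow N r)
      (fun j => (1, rr N r j)) (fun j => by rw [Prod.pow_mk, rr_pow, one_pow]; rfl) (fun j => rfl)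
    have h4 := ee_mul hM E (fun j => (rr N r j, (1 : GG N r))) (fun j => ((1 : GG N r), rr N r j))
      (fun j => (rr N r j, rr N r j)) (fun j => by rw [Prod.pow_mk, rr_pow, one_pow]; rfl)
      (fun j => by rw [Prod.pow_mk, rr_pow, one_pow]; rfl) (fun j => by rw [Prod.pow_mk, rr_pow]; rfl)
      (fun j => by rw [Prod.mk_mul_mk, _root_.mul_one, _root_.one_mul])
    have h5 := congrArg Units.val h4
    rw [Units.val_mul, h1, h2, h3] at h5
    exact h5
  · rw [← aug_eq]
    have h1 := map_ee hM E (1 : GG N r →* GG N r) (rr N r) (rr_pow N r) (fun _ => 1) (fun j => one_pow _) (fun j => rfl)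
    rw [ee_one hM E _ _ (fun j => rfl)] at h1
    have h2 := congrArg (fun z : MonoidAlgebra Γ(F.left, ⊤) (GG N r) => z.coeff 1) h1
    refine h2.symm.trans ?_
    exact MonoidAlgebra.coeff_one_one

/-! ## Every point is classified by the universal one -/

/-- A homomorphism from the cyclic group. -/
def zl {A : Type u} [CommGroup A] [NeZero N] (a : A) (ha : a ^ N = 1) : Multiplicative (ZMod N) →* A where
  toFun z := a ^ (ZMod.val z.toAdd)
  map_one' := by
    change a ^ (ZMod.val (0 : ZMod N)) = 1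
    rw [ZMod.val_zero, pow_zero]
  map_mul' z w := by
    change a ^ (ZMod.val (z.toAdd + w.toAdd)) = a ^ (ZMod.val z.toAdd) * a ^ (ZMod.val w.toAdd)
    rw [ZMod.val_add, ← pow_add, ← pow_eq_pow_mod _ ha]

theorem zl_gen {A : Type u} [CommGroup A] [NeZero N] (a : A) (ha : a ^ N = 1) :
    zl a ha (Multiplicative.ofAdd 1) = a := by
  change a ^ (ZMod.val (1 : ZMod N)) = a
  rw [ZMod.val_one_eq_one_mod, ← pow_eq_pow_mod _ ha, pow_one]

/-- A homomorphism from the universal group. -/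
def gl {A : Type u} [CommGroup A] [NeZero N] (v : Fin r → A) (hv : ∀ j, v j ^ N = 1) : GG N r →* A :=
  ∏ j, (zl (v j) (hv j)).comp (Pi.evalMonoidHom _ j)

theorem gl_gen {A : Type u} [CommGroup A] [NeZero N] (v : Fin r → A) (hv : ∀ j, v j ^ N = 1) (j : Fin r) :
    gl v hv (rr N r j) = v j := by
  rw [gl, MonoidHom.finsetProd_apply, Finset.prod_eq_single j]
  · change zl (v j) (hv j) (rr N r j j) = v j
    rw [rr, Pi.mulSingle_eq_same, zl_gen]
  · intro i _ hi
    change zl (v i) (hv i) (rr N r j i) = 1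
    rw [rr, Pi.mulSingle_eq_of_ne hi, map_one]
  · intro h
    exact absurd (Finset.mem_univ _) h

theorem eq_one_of_univ [NeZero N] (hM : IsMu N r M χ) (E : Pairing M F)
    (h : ee hM E (rr N r) (rr_pow N r) = 1) {T : Over (Spec (CommRingCat.of R))} (x : T ⟶ M) (y : T ⟶ F) :
    E.e x y = 1 := by
  have hv : ∀ j, ures x (χ j) ^ N = 1 := fun j => by rw [← map_pow, hM.pow, map_one]
  let b : GA F (GG N r) ⟶ Γ(T.left, ⊤) := CommRingCat.ofHom (MonoidAlgebra.liftNCRingHom y.left.appTop.hom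
    ((Units.coeHom Γ(T.left, ⊤)).comp (gl (fun j => ures x (χ j)) hv)) (fun _ _ => Commute.all _ _))
  have hb : ga F (GG N r) ≫ b = y.left.appTop := by
    apply CommRingCat.hom_ext
    ext c : 1
    change MonoidAlgebra.liftNCRingHom y.left.appTop.hom
      ((Units.coeHom Γ(T.left, ⊤)).comp (gl (fun j => ures x (χ j)) hv)) (fun _ _ => Commute.all _ _)
        (MonoidAlgebra.single 1 c) = y.left.appTop.hom c
    rw [MonoidAlgebra.liftNCRingHom_single, map_one, _root_.mul_one]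
  have hx : qq (ga F (GG N r)) y b hb ≫ xx (F := F) hM (rr N r) (rr_pow N r) = x := by
    apply mu_ext hM
    intro j
    rw [ures_comp, coord_xx, ures_qq, fn_nf]
    apply Units.ext
    change MonoidAlgebra.liftNCRingHom y.left.appTop.hom
      ((Units.coeHom Γ(T.left, ⊤)).comp (gl (fun j => ures x (χ j)) hv)) (fun _ _ => Commute.all _ _)
        (MonoidAlgebra.single (rr N r j) 1) = (ures x (χ j)).val
    rw [MonoidAlgebra.liftNCRingHom_single, map_one, _root_.one_mul]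
    exact congrArg Units.val (gl_gen _ _ j)
  have h1 : E.e (xx (F := F) hM (rr N r) (rr_pow N r)) (yy (ga F (GG N r))) = 1 := by
    apply fn_inj
    rw [map_one]
    exact h
  have h2 := E.nat (qq (ga F (GG N r)) y b hb) (xx (F := F) hM (rr N r) (rr_pow N r)) (yy (ga F (GG N r)))
  rw [hx, qq_yy, h1, map_one] at h2
  exact h2

/-! ## The closed fibre -/

/-- The ring homomorphism of an affine scheme over a ring. -/
abbrev alg (F : Over (Spec (CommRingCat.of R))) : CommRingCat.of R ⟶ Γ(F.left, ⊤) :=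
  (Scheme.ΓSpecIso (CommRingCat.of R)).inv ≫ F.hom.appTop

omit [GrpObj F] in
theorem isoSpec_inv_hom : F.left.isoSpec.inv ≫ F.hom = Spec.map (alg F) := by
  rw [Iso.inv_comp_eq, Spec.map_comp]
  change F.hom = F.left.toSpecΓ ≫ Spec.map F.hom.appTop ≫ Spec.map (Scheme.ΓSpecIso (CommRingCat.of R)).inv
  rw [← Category.assoc, ← Scheme.toSpecΓ_naturality, Category.assoc, toSpecΓ_SpecMap_ΓSpecIso_inv, Category.comp_id]

end Main

open TensorProduct in
theorem main : NodeOrth.{u} := by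
  intro R _ _ M F _ _ hF N r hN χ hM E κ _ φ hφ hE T x y
  have : NeZero N := ⟨hN.ne'⟩
  have : IsAffine F.left := isAffine_of_isAffineHom F.hom
  refine eq_one_of_univ hM E (ee_univ hM E ?_) x y
  intro c hc g hg hcg
  let _ : Algebra R Γ(F.left, ⊤) := (alg F).hom.toAlgebra
  let _ : Algebra R κ := φ.toAlgebra
  have : Module.Finite R Γ(F.left, ⊤) := by
    have h1 : (alg F).hom.Finite := by
      rw [CommRingCat.hom_comp]
      refine RingHom.Finite.comp (Scheme.Hom.finite_appTop F.hom) (RingHom.Finite.of_surjective _ ?_)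
      exact (ConcreteCategory.bijective_of_isIso (Scheme.ΓSpecIso (CommRingCat.of R)).inv).2
    exact h1
  apply eq_zero_of_idem (κ := κ) (R := R) (by exact hφ) c hc
  let D : CommRingCat.{u} := CommRingCat.of (MonoidAlgebra (κ ⊗[R] Γ(F.left, ⊤)) (GG N r))
  let iR : Γ(F.left, ⊤) →+* κ ⊗[R] Γ(F.left, ⊤) := (Algebra.TensorProduct.includeRight).toRingHom
  let iL : κ →+* κ ⊗[R] Γ(F.left, ⊤) := (Algebra.TensorProduct.includeLeft (S := R)).toRingHom
  let b : GA F (GG N r) ⟶ D := CommRingCat.ofHom (MonoidAlgebra.mapRingHom (GG N r) iR)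
  let a : CommRingCat.of κ ⟶ D :=
    CommRingCat.ofHom ((MonoidAlgebra.singleOneRingHom (R := κ ⊗[R] Γ(F.left, ⊤)) (M := GG N r)).comp iL)
  have hw : Spec.map b ≫ tt F (ga F (GG N r)) = Spec.map a ≫ sp φ := by
    rw [tt, Category.assoc, isoSpec_inv_hom, ← Spec.map_comp, ← Spec.map_comp, ← Spec.map_comp]
    congr 1
    apply CommRingCat.hom_ext
    ext z : 1
    change MonoidAlgebra.map iR.toAddMonoidHom (MonoidAlgebra.single 1 ((alg F).hom z)) = MonoidAlgebra.single 1 (iL (φ z))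
    rw [MonoidAlgebra.map_single]
    congr 1
    exact (Algebra.TensorProduct.includeRight : Γ(F.left, ⊤) →ₐ[R] κ ⊗[R] Γ(F.left, ⊤)).commutes z
  let gk : (Over.map (sp φ)).obj (Over.mk (Spec.map a)) ⟶ Over.mk (tt F (ga F (GG N r))) :=
    Over.homMk (Spec.map b) hw
  have h1 := hE (upp (sp φ) (gk ≫ xx (F := F) hM (rr N r) (rr_pow N r))) (upp (sp φ) (gk ≫ yy (ga F (GG N r))))
  rw [dn_upp, dn_upp, E.nat] at h1
  have h2 := congrArg (fn (Spec.map a ≫ sp φ)) h1
  rw [map_one] at h2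
  have h3 := (fn_ures (tt F (ga F (GG N r))) (Spec.map a ≫ sp φ) b gk rfl
    (E.e (xx (F := F) hM (rr N r) (rr_pow N r)) (yy (ga F (GG N r))))).symm.trans h2
  have h4 := congrArg (fun z : Dˣ => MonoidAlgebra.coeff (R := κ ⊗[R] Γ(F.left, ⊤)) (M := GG N r) z.val g) h3
  change iR ((ee hM E (rr N r) (rr_pow N r)).val.coeff g) =
    MonoidAlgebra.coeff (1 : MonoidAlgebra (κ ⊗[R] Γ(F.left, ⊤)) (GG N r)) g at h4
  rw [← hcg] at h4
  refine h4.trans ?_
  rw [MonoidAlgebra.one_def, MonoidAlgebra.coeff_single, Finsupp.single_apply, if_neg (Ne.symm hg)]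

end K567.Orth
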