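import Groth.Agent.GrpSch.K270.MB.Shape3
import Groth.Agent.GrpSch.K982.FFClos

/-!
# (A4) of S14306: properties of the pairings `E m` over `R` from the generic fibre
-/

set_option autoImplicit false
universe u
open CategoryTheory CategoryTheory.Limits MonoidalCategory CartesianMonoidalCategory MonObj AlgebraicGeometry
open K270.MB

noncomputable section

namespace K567.GenInj

variable {R : Type u} [CommRing R] [IsDomain R]

/-- Units on a flat scheme over a domain are determined by their restriction to the generic fibre. -/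
theorem ures_gen_inj (W : Over (Spec (CommRingCat.of R))) (hW : Flat W.hom) (a b : U W)
    (h : ures (dn (gen R) (𝟙 (Red.bc (gen R) W))) a = ures (dn (gen R) (𝟙 (Red.bc (gen R) W))) b) : a = b := by
  have hdom : IsSchemeTheoreticallyDominant (pullback.fst W.hom (gen R)) := K982.FFClos.dom_pr R (FractionRing R) W
  have hqc : QuasiCompact (pullback.fst W.hom (gen R)) := inferInstance
  apply Units.ext
  apply Scheme.Hom.app_injective (pullback.fst W.hom (gen R)) ⊤
  have h1 := congrArg Units.val h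
  have e : (dn (gen R) (𝟙 (Red.bc (gen R) W))).left = pullback.fst W.hom (gen R) := by
    rw [dn_left]
    exact Category.id_comp _
  change (Scheme.Hom.appTop (dn (gen R) (𝟙 (Red.bc (gen R) W))).left) a.val =
    (Scheme.Hom.appTop (dn (gen R) (𝟙 (Red.bc (gen R) W))).left) b.val at h1
  rwa [e] at h1

/-- The values on a flat scheme of a pairing, restricted to the generic fibre. -/
theorem ures_pair {X Y : Over (Spec (CommRingCat.of R))} [GrpObj X] [GrpObj Y] (E : Pairing X Y)
    {W : Over (Spec (CommRingCat.of R))} (a : W ⟶ X) (b : W ⟶ Y) :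
    ures (dn (gen R) (𝟙 (Red.bc (gen R) W))) (E.e a b) =
      E.e (T := (Over.map (gen R)).obj (Red.bc (gen R) W)) (dn (gen R) ((Over.pullback (gen R)).map a))
        (dn (gen R) ((Over.pullback (gen R)).map b)) := by
  have e1 : ∀ {Z : Over (Spec (CommRingCat.of R))} (z : W ⟶ Z),
      dn (gen R) (𝟙 (Red.bc (gen R) W)) ≫ z = dn (gen R) ((Over.pullback (gen R)).map z) := by
    intro Z z
    rw [← dn_map, Category.id_comp]
  rw [← E.nat, e1, e1]

theorem mono_of_isClSub {S : Scheme.{u}} {H G : Over S} [GrpObj H] [GrpObj G] {i : H ⟶ G} (h : IsClSub i) : Mono i := by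
  have h1 := h.closed
  exact (Over.forget _).mono_of_mono_map (inferInstanceAs (Mono i.left))

theorem flat_tensor {S : Scheme.{u}} {X Y : Over S} (hX : Flat X.hom) (hY : Flat Y.hom) : Flat (X ⊗ Y).hom := by
  rw [Over.tensorObj_hom]
  infer_instance

theorem map_pow_bc {A F : Over (Spec (CommRingCat.of R))} [GrpObj A] (f : F ⟶ A) (n : ℕ) :
    (Over.pullback (gen R)).map (f ^ n) = ((Over.pullback (gen R)).map f : Red.bc (gen R) F ⟶ Red.bc (gen R) A) ^ n := by
  apply dn_inj (gen R)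
  rw [dn_pow]
  have h1 : ∀ g : F ⟶ A, dn (gen R) ((Over.pullback (gen R)).map g) = dn (gen R) (𝟙 (Red.bc (gen R) F)) ≫ g := by
    intro g
    rw [← dn_map, Category.id_comp]
  rw [h1, h1, comp_pow']

theorem pow_map {A F T : Over (Spec (CommRingCat.of R))} [GrpObj A] {f : F ⟶ A} {N : ℕ} (hf : f ^ N = 1) (x : T ⟶ F) :
    ((Over.pullback (gen R)).map x ≫ (Over.pullback (gen R)).map f : Red.bc (gen R) T ⟶ Red.bc (gen R) A) ^ N = 1 := by
  rw [← Functor.map_comp, ← map_pow_bc, ← comp_pow', hf, MonObj.comp_one]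
  apply dn_inj (gen R)
  have h1 : dn (gen R) ((Over.pullback (gen R)).map (1 : T ⟶ A)) = dn (gen R) (𝟙 (Red.bc (gen R) T)) ≫ (1 : T ⟶ A) := by
    rw [← dn_map, Category.id_comp]
  rw [h1, MonObj.comp_one]
  exact (dn_one (gen R)).symm

omit [IsDomain R] in
theorem e_congr {X : Over (Spec (CommRingCat.of (FractionRing R)))} [GrpObj X] {N : ℕ} (e : TPairing X N)
    {T : Over (Spec (CommRingCat.of (FractionRing R)))} {x x' y y' : T ⟶ X} (h1 : x = x') (h2 : y = y')
    (hx : x ^ N = 1) (hy : y ^ N = 1) (hx' : x' ^ N = 1) (hy' : y' ^ N = 1) : e.e x y hx hy = e.e x' y' hx' hy' := by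
  subst h1 h2
  rfl

/-- **Skew symmetry** over `R`. -/
theorem skew {A F : Over (Spec (CommRingCat.of R))} [GrpObj A] [GrpObj F] {f : F ⟶ A} {N : ℕ} (hf : f ^ N = 1)
    (hflat : Flat F.hom) (E : Pairing F F) (e : TPairing (Red.bc (gen R) A) N)
    (hgen : ∀ {T : Over (Spec (CommRingCat.of (FractionRing R)))} (x y : T ⟶ Red.bc (gen R) F)
      (hx : (x ≫ (Over.pullback (gen R)).map f) ^ N = 1) (hy : (y ≫ (Over.pullback (gen R)).map f) ^ N = 1),
      e.e (x ≫ (Over.pullback (gen R)).map f) (y ≫ (Over.pullback (gen R)).map f) hx hy =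
        E.e (T := (Over.map (gen R)).obj T) (dn (gen R) x) (dn (gen R) y))
    (hsk : ∀ {T : Over (Spec (CommRingCat.of (FractionRing R)))} (x y : T ⟶ Red.bc (gen R) A)
      (hx : x ^ N = 1) (hy : y ^ N = 1), e.e x y hx hy * e.e y x hy hx = 1)
    {T : Over (Spec (CommRingCat.of R))} (x y : T ⟶ F) : E.e x y * E.e y x = 1 := by
  have huniv : E.e (fst F F) (snd F F) * E.e (snd F F) (fst F F) = 1 := by
    apply ures_gen_inj (F ⊗ F) (flat_tensor hflat hflat)
    rw [map_mul, ures_pair, ures_pair, map_one, ← hgen _ _ (pow_map hf _) (pow_map hf _),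
      ← hgen _ _ (pow_map hf _) (pow_map hf _)]
    exact hsk _ _ _ _
  have h1 := congrArg (ures (lift x y)) huniv
  rw [map_mul, ← E.nat, ← E.nat, lift_fst, lift_snd, map_one] at h1
  exact h1

/-- The **level formula** over `R`. -/
theorem level {A F F' : Over (Spec (CommRingCat.of R))} [GrpObj A] [GrpObj F] [GrpObj F'] {f : F ⟶ A} {f' : F' ⟶ A}
    {N N' p : ℕ} (hf : f ^ N = 1) (hf' : f' ^ N' = 1) (hcl : IsClSub f) (hcl' : IsClSub f')
    (hflat : Flat F.hom) (hflat' : Flat F'.hom) (E : Pairing F F) (E' : Pairing F' F')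
    (e : TPairing (Red.bc (gen R) A) N) (e' : TPairing (Red.bc (gen R) A) N')
    (hgen : ∀ {T : Over (Spec (CommRingCat.of (FractionRing R)))} (x y : T ⟶ Red.bc (gen R) F)
      (hx : (x ≫ (Over.pullback (gen R)).map f) ^ N = 1) (hy : (y ≫ (Over.pullback (gen R)).map f) ^ N = 1),
      e.e (x ≫ (Over.pullback (gen R)).map f) (y ≫ (Over.pullback (gen R)).map f) hx hy =
        E.e (T := (Over.map (gen R)).obj T) (dn (gen R) x) (dn (gen R) y))
    (hgen' : ∀ {T : Over (Spec (CommRingCat.of (FractionRing R)))} (x y : T ⟶ Red.bc (gen R) F')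
      (hx : (x ≫ (Over.pullback (gen R)).map f') ^ N' = 1) (hy : (y ≫ (Over.pullback (gen R)).map f') ^ N' = 1),
      e'.e (x ≫ (Over.pullback (gen R)).map f') (y ≫ (Over.pullback (gen R)).map f') hx hy =
        E'.e (T := (Over.map (gen R)).obj T) (dn (gen R) x) (dn (gen R) y))
    (hlev : ∀ {T : Over (Spec (CommRingCat.of (FractionRing R)))} (x y : T ⟶ Red.bc (gen R) A)
      (hx : x ^ N = 1) (hx' : x ^ N' = 1) (hy : y ^ N' = 1) (hy' : (y ^ p) ^ N = 1),
      e'.e x y hx' hy = e.e x (y ^ p) hx hy')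
    (hio : Fac f' f) (hka : Fac f (f' ^ p))
    {T : Over (Spec (CommRingCat.of R))} (x : T ⟶ F) (x' y : T ⟶ F') (y' : T ⟶ F)
    (h1 : x' ≫ f' = x ≫ f) (h2 : (y ≫ f') ^ p = y' ≫ f) : E'.e x' y = E.e x y' := by
  obtain ⟨io, hio⟩ := hio
  obtain ⟨ka, hka⟩ := hka
  have hm := mono_of_isClSub hcl
  have hm' := mono_of_isClSub hcl'
  have huniv : E'.e (fst F F' ≫ io) (snd F F') = E.e (fst F F') (snd F F' ≫ ka) := by
    apply ures_gen_inj (F ⊗ F') (flat_tensor hflat hflat')
    rw [ures_pair, ures_pair, ← hgen' _ _ (pow_map hf' _) (pow_map hf' _), ← hgen _ _ (pow_map hf _) (pow_map hf _)]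
    have ha : (Over.pullback (gen R)).map (fst F F' ≫ io) ≫ (Over.pullback (gen R)).map f' =
        (Over.pullback (gen R)).map (fst F F') ≫ (Over.pullback (gen R)).map f := by
      rw [← Functor.map_comp, Category.assoc, hio, Functor.map_comp]
    have hb : (Over.pullback (gen R)).map (snd F F' ≫ ka) ≫ (Over.pullback (gen R)).map f =
        ((Over.pullback (gen R)).map (snd F F') ≫ (Over.pullback (gen R)).map f' :
          Red.bc (gen R) (F ⊗ F') ⟶ Red.bc (gen R) A) ^ p := by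
      rw [← Functor.map_comp, Category.assoc, hka, ← comp_pow', Functor.map_comp, map_pow_bc]
    have hx1 := pow_map hf (fst F F')
    have hx1' : ((Over.pullback (gen R)).map (fst F F') ≫ (Over.pullback (gen R)).map f :
        Red.bc (gen R) (F ⊗ F') ⟶ Red.bc (gen R) A) ^ N' = 1 := by
      rw [← ha]
      exact pow_map hf' _
    have hy1 := pow_map hf' (snd F F')
    have hy1' : (((Over.pullback (gen R)).map (snd F F') ≫ (Over.pullback (gen R)).map f' :
        Red.bc (gen R) (F ⊗ F') ⟶ Red.bc (gen R) A) ^ p) ^ N = 1 := by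
      rw [← hb]
      exact pow_map hf _
    rw [e_congr e' ha rfl _ _ hx1' hy1, hlev _ _ hx1 hx1' hy1 hy1']
    exact (e_congr e rfl hb _ _ _ _).symm
  have h3 := congrArg (ures (lift x y)) huniv
  rw [← E'.nat, ← E.nat, ← Category.assoc, ← Category.assoc, lift_fst, lift_snd] at h3
  have e1 : x' = x ≫ io := by rw [← cancel_mono f', h1, Category.assoc, hio]
  have e2 : y' = y ≫ ka := by rw [← cancel_mono f, ← h2, Category.assoc, hka, comp_pow']
  rw [e1, e2]
  exact h3

/-! ## In the notation of `NodeEm` and `NodeRigidity` -/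

section Seq

variable {p : ℕ} {A : Over (Spec (CommRingCat.of R))} [GrpObj A] {F : ℕ → Over (Spec (CommRingCat.of R))}
  [∀ m, GrpObj (F m)] {f : ∀ m, F m ⟶ A} [IsLocalRing R] (hf : ∀ m, IsFinPart R A (p ^ m) (f m))
  (E : ∀ m, Pairing (F m) (F m)) (e : ∀ m, TPairing (Red.bc (gen R) A) (p ^ m))
  (hgen : ∀ (m : ℕ) {T : Over (Spec (CommRingCat.of (FractionRing R)))} (x y : T ⟶ Red.bc (gen R) (F m))
    (hx : (x ≫ (Over.pullback (gen R)).map (f m)) ^ (p ^ m) = 1)
    (hy : (y ≫ (Over.pullback (gen R)).map (f m)) ^ (p ^ m) = 1),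
    (e m).e (x ≫ (Over.pullback (gen R)).map (f m)) (y ≫ (Over.pullback (gen R)).map (f m)) hx hy =
      (E m).e (T := (Over.map (gen R)).obj T) (dn (gen R) x) (dn (gen R) y))

include hf hgen in
/-- Skew symmetry over `R`, for all levels. -/
theorem skew_seq
    (hsk : ∀ (m : ℕ) {T : Over (Spec (CommRingCat.of (FractionRing R)))} (x y : T ⟶ Red.bc (gen R) A)
      (hx : x ^ (p ^ m) = 1) (hy : y ^ (p ^ m) = 1), (e m).e x y hx hy * (e m).e y x hy hx = 1)
    (m : ℕ) {T : Over (Spec (CommRingCat.of R))} (x y : T ⟶ F m) : (E m).e x y * (E m).e y x = 1 :=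
  skew (hf m).pow (hf m).flat (E m) (e m) (hgen m) (hsk m) x y

include hf hgen in
/-- The level formula over `R`, for all levels. -/
theorem level_seq
    (hlev : ∀ (m : ℕ) {T : Over (Spec (CommRingCat.of (FractionRing R)))} (x y : T ⟶ Red.bc (gen R) A)
      (hx : x ^ (p ^ m) = 1) (hx' : x ^ (p ^ (m + 1)) = 1) (hy : y ^ (p ^ (m + 1)) = 1) (hy' : (y ^ p) ^ (p ^ m) = 1),
      (e (m + 1)).e x y hx' hy = (e m).e x (y ^ p) hx hy')
    (hinc : ∀ m, Fac (f (m + 1)) (f m)) (hpw : ∀ m, Fac (f m) (f (m + 1) ^ p))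
    (m : ℕ) {T : Over (Spec (CommRingCat.of R))} (x : T ⟶ F m) (x' y : T ⟶ F (m + 1)) (y' : T ⟶ F m)
    (h1 : x' ≫ f (m + 1) = x ≫ f m) (h2 : (y ≫ f (m + 1)) ^ p = y' ≫ f m) :
    (E (m + 1)).e x' y = (E m).e x y' :=
  level (hf m).pow (hf (m + 1)).pow (hf m).toIsClSub (hf (m + 1)).toIsClSub (hf m).flat (hf (m + 1)).flat (E m)
    (E (m + 1)) (e m) (e (m + 1)) (hgen m) (hgen (m + 1)) (hlev m) (hinc m) (hpw m) x x' y y' h1 h2

end Seq

end K567.GenInj
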