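import Groth.Agent.GrpSch.K267.FlatHom
import Groth.Agent.GrpSch.K267.Isogeny
import Groth.Agent.GrpSch.K267.DeligneSch
import Groth.Agent.GrpSch.K269.QuotSemi
import Groth.Agent.AlgGrp.K395.Quo
import Groth.Agent.Sga3.H813.Neutral
import Groth.Agent.Sga7.H756.GenBase
import Groth.Agent.Sga7.H756.QFRank
import Groth.Agent.Sga7.H760.KerBc
import Groth.Agent.Flat2B.SmoothGeom

/-!
# Semi-stable groups extending a quotient of the generic fibre

`main`: `A` semi-stable over a locally Noetherian scheme `S`, `i : K ⟶ A` a closed flat quasi-finite subgroup, `x` a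
point of `S`; if the fibre `i_x` is a kernel of a surjective homomorphism of finite type `lam : A_x ⟶ At` onto a
smooth connected group over `κ(x)`, then `At` is the fibre at `x` of a semi-stable group with connected fibres, namely of
the neutral component of `A/K`.
-/

set_option autoImplicit false
universe u

open CategoryTheory CategoryTheory.Limits MonoidalCategory CartesianMonoidalCategory MonObj GrpObj
  AlgebraicGeometry

namespace K567.DualExt

open Groth.Agent

/-- An open subgroup of a connected group is everything. -/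
theorem isIso_left_of_open (k : Type u) [Field k] {A B : Over (Spec (CommRingCat.of k))} [GrpObj A]
    [GrpObj B] [LocallyOfFiniteType B.hom] [ConnectedSpace B.left] (u : A ⟶ B) [IsMonHom u]
    [IsOpenImmersion u.left] [QuasiCompact u.left] : IsIso u.left := by
  have h0 : LocallyOfFiniteType A.hom := by
    rw [← Over.w u]; infer_instance
  obtain ⟨-, hs⟩ := K267.Isogeny.isFinite_surjective_of_flat k A B u
  exact (isIso_iff_isOpenImmersion_and_surjective u.left).2 ⟨‹_›, hs⟩

variable {S : Scheme.{u}} [IsLocallyNoetherian S]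
  (A : Over S) [GrpObj A] [IsCommMonObj A] [Smooth A.hom] [IsSeparated A.hom] [QuasiCompact A.hom]
  (hA : SGA7.FibresUnipotentRankZero A)
  {K : Over S} [GrpObj K] (i : K ⟶ A) [IsMonHom i] [IsClosedImmersion i.left]
  [Flat K.hom] [LocallyQuasiFinite K.hom]

include hA in
theorem main {k : Type u} [Field k] (t : Spec (CommRingCat.of k) ⟶ S) (At : Over (Spec (CommRingCat.of k))) [GrpObj At] [Smooth At.hom]
    [ConnectedSpace At.left] (lam : Red.bc t A ⟶ At) [IsMonHom lam]
    [Surjective lam.left] [QuasiCompact lam.left]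
    (hk : AlgGrp.IsKernel ((Over.pullback t).map i) lam) :
    ∃ (B : Over S) (_ : GrpObj B) (_ : IsCommMonObj B)
      (e : Red.bc t B ≅ At),
      IsMonHom e.hom ∧ Smooth B.hom ∧ IsSeparated B.hom ∧ QuasiCompact B.hom ∧
      SGA7.FibresUnipotentRankZero B ∧ ∀ s : S, ConnectedSpace ↥(B.hom.fiber s) := by
  obtain ⟨Q, gQ, cQ, q, hq, hq1, hq2, hq3, hker, hQ1, hQ2, hQ3, hQ4⟩ := K269.QuotSemi.main i hA
  obtain ⟨B, gB, w, hw, hw1, -, hB1, hB2, hB3, hB4⟩ := Sga3.H813.Neutral.exists_neutral Q
  -- the quotient on the fibre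
  let qx : Red.bc t A ⟶ Red.bc t Q := (Over.pullback t).map q
  have hqx : IsMonHom qx := inferInstanceAs (IsMonHom ((Over.pullback t).map q))
  have hsq := Sga7.H756.GenBase.isPullback_map t q
  have hqc : QuasiCompact q.left := by
    have : QuasiCompact (q.left ≫ Q.hom) := by rw [Over.w]; infer_instance
    exact QuasiCompact.of_comp q.left Q.hom
  have hcov : Sga3.H739.Fpqc.Cov qx :=
    ⟨MorphismProperty.of_isPullback (P := @Flat) hsq.flip hq1,
      MorphismProperty.of_isPullback (P := @Surjective) hsq.flip hq2,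
      MorphismProperty.of_isPullback (P := @QuasiCompact) hsq.flip hqc⟩
  have hkx := Sga7.H760.KerBc.isKernel_bc t hker
  have a1 : Smooth (Red.bc t A).hom := inferInstanceAs (Smooth (pullback.snd A.hom t))
  have a2 : GeometricallyReduced At.hom :=
    Groth.Agent.Flat2B.SmoothGeom.geometricallyReduced_of_smooth At.hom
  have hlf : Flat lam.left := K267.FlatHom.flat_of_geometricallyReduced lam
  have hcov' : Sga3.H739.Fpqc.Cov lam := ⟨hlf, ‹_›, ‹_›⟩
  obtain ⟨e1, he1⟩ := K395.Quo.exists_iso_of_kernel _ qx lam hcov hcov' hkx hk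
  have he1m : IsMonHom e1.hom := K395.Quo.isMonHom_of_comp_cov qx hcov e1.hom (by rw [he1]; infer_instance)
  -- the neutral component on the fibre
  let wx : Red.bc t B ⟶ Red.bc t Q := (Over.pullback t).map w
  have hwx : IsMonHom wx := inferInstanceAs (IsMonHom ((Over.pullback t).map w))
  have hsw := Sga7.H756.GenBase.isPullback_map t w
  have b1 : IsOpenImmersion wx.left := MorphismProperty.of_isPullback (P := @IsOpenImmersion) hsw.flip hw1
  have b2 : Smooth (Red.bc t Q).hom := inferInstanceAs (Smooth (pullback.snd Q.hom t))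
  have b3 : IsSeparated (Red.bc t Q).hom := inferInstanceAs (IsSeparated (pullback.snd Q.hom t))
  have b4 : QuasiCompact (Red.bc t B).hom := inferInstanceAs (QuasiCompact (pullback.snd B.hom t))
  have b5 : QuasiCompact wx.left := by
    have : QuasiCompact (wx.left ≫ (Red.bc t Q).hom) := by rw [Over.w]; infer_instance
    exact QuasiCompact.of_comp wx.left (Red.bc t Q).hom
  have b6 : ConnectedSpace (Red.bc t Q).left := by
    have : IsIso e1.inv.left := inferInstanceAs (IsIso ((Over.forget _).map e1.inv))
    exact (Scheme.homeoOfIso (asIso e1.inv.left)).surjective.connectedSpace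
      (Scheme.homeoOfIso (asIso e1.inv.left)).continuous
  have b7 : IsIso wx.left := isIso_left_of_open _ wx
  have b8 : IsIso wx := by
    have : IsIso ((Over.forget _).map wx) := b7
    exact isIso_of_reflects_iso wx (Over.forget _)
  have hwmono : Mono w := Over.mono_of_mono_left w
  have cB : IsCommMonObj B := K267.DeligneSch.isCommMonObj_of_iso w
  refine ⟨B, gB, cB, asIso wx ≪≫ e1, ?_, hB1, hB3, hB2, fun s => ?_, fun s => ?_⟩
  · change IsMonHom (wx ≫ e1.hom)
    infer_instance
  · exact Sga7.H756.QFRank.rankZero_of_lqf w s (hQ4 s)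
  · have h1 : IrreducibleSpace ↥(B.hom.fiber s) :=
      hB4.geometrically_irreducibleSpace (S.fromSpecResidueField s) (B.hom.fiberι s)
        (B.hom.fiberToSpecResidueField s) (IsPullback.of_hasPullback _ _)
    infer_instance

end K567.DualExt
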