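import Groth.Agent.GrpSch.K270.MB.Shape4
import Groth.Agent.GrpSch.K86.DvrDom
import Groth.Agent.GrpSch.K269.RedKL

/-!
# Node PACKR of S14306: the package over `R` from the data over a dominating discrete valuation ring
-/

set_option autoImplicit false
universe u
open CategoryTheory CategoryTheory.Limits MonoidalCategory CartesianMonoidalCategory MonObj AlgebraicGeometry
open K999.Cart K999.EDesc K999.Scal Groth.Agent.Grpsch.PicGrp K529.KL
open K270.MB

noncomputable section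

namespace K567.PackR

theorem ker_eq {R V : Type u} [CommRing R] [IsLocalRing R] [CommRing V] [IsLocalRing V] (φ : R →+* V) [IsLocalHom φ] :
    RingHom.ker ((IsLocalRing.residue V).comp φ) = IsLocalRing.maximalIdeal R := by
  rw [← RingHom.comap_ker, IsLocalRing.ker_residue, IsLocalRing.maximalIdeal_comap]

section KLbc

variable {S S₁ H H' : Scheme.{u}} {g : H ⟶ S} {v : S₁ ⟶ S} {k : H' ⟶ S₁} {c : H' ⟶ H} (hc : c ≫ g = k ≫ v)

theorem rdq_eq {A : Over S} {T : Over H'} (a : T ⟶ Red.bc k (Red.bc v A)) :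
    Groth.Agent.GrpSch.K269.RedKL.dq c (qq hc A).left (isPullback_qq hc A).w a = dq c (qq hc A) a := by
  apply Over.OverMorphism.ext
  rfl

theorem rdq_mul {A : Over S} [GrpObj A] {T : Over H'} (a b : T ⟶ Red.bc k (Red.bc v A)) :
    Groth.Agent.GrpSch.K269.RedKL.dq c (qq hc A).left (isPullback_qq hc A).w (a * b) =
      Groth.Agent.GrpSch.K269.RedKL.dq c (qq hc A).left (isPullback_qq hc A).w a *
        Groth.Agent.GrpSch.K269.RedKL.dq c (qq hc A).left (isPullback_qq hc A).w b := by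
  rw [rdq_eq, rdq_eq, rdq_eq]
  exact qq_mul hc a b

end KLbc

theorem main (hV : NodePackV.{u}) : NodePack.{u} := by
  intro R _ _ _ _ _ _ A _ hA hprop L hL Kl _ j hj hKl hfin Λ hΛ hΛc D θ
  obtain ⟨V, _, _, _, φ₀, hloc, hinj, _, hhens, halg⟩ := K86.DvrDom.exists_dvr R
  let v : Spec (CommRingCat.of V) ⟶ Spec (CommRingCat.of R) := spp φ₀
  let k : Spec (CommRingCat.of (FractionRing V)) ⟶ Spec (CommRingCat.of V) := gen V
  let c : Spec (CommRingCat.of (FractionRing V)) ⟶ Spec (CommRingCat.of (FractionRing R)) := spp (frm φ₀ hinj)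
  have hc : c ≫ gen R = k ≫ v := frm_sq φ₀ hinj
  have hAV : GoodA (Red.bc v A) := hA.bc v
  have hAK : GoodA (Red.bc k (Red.bc v A)) := hAV.bc k
  have hprop' : IsProper (Red.bc k (Red.bc v A)).hom := MorphismProperty.of_isPullback (isPullback_qq hc A) hprop
  have hgi' : GeometricallyIntegral (Red.bc k (Red.bc v A)).hom := hAK.gi
  -- the sheaf
  let L' : (Red.bc k (Red.bc v A)).left.Modules := (Scheme.Modules.pullback (qq hc A).left).obj L
  have hL' : PicF.IsInvertible L' := Groth.Agent.Fdesc.LocGen.isInvertible_pullback (qq hc A).left hL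
  have hmk : pull (qq hc A).left (mk L hL) = mk L' hL' := pull_mk _ _
  obtain ⟨Λ', hΛ', hΛs', hΛc'⟩ := exists_lam hL'
  obtain ⟨D'⟩ := exists_bir_lam hL' hΛ' hΛs'
  have hcl : pull (cq c (qq hc A)).left (mk Λ hΛ) = mk Λ' hΛ' := by
    rw [hΛc, pull_lamC c (qq hc A) (qq_mul hc), hmk, hΛc']
  obtain ⟨ψ, hψ, hψb⟩ := exists_cart (cq c (qq hc A)).left hΛ' hΛ hcl
  let io' : GBc c (GTor.ofMod _ Λ') (GTor.ofMod _ Λ) (cq c (qq hc A)) := GBc.ofArr c (cq c (qq hc A)) ψ hψ hψb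
  let θ' : ∀ N : ℕ, Theta D' N := fun N => (exists_atheta_lam hL' hΛ' hΛs' D' N).some.toTheta
  -- the subgroup `K(L)`
  have hclj := hKl.closed
  obtain ⟨Kl', _, j', hj', hclj', ⟨r', hr'⟩, hfac'⟩ := Groth.Agent.GrpSch.K269.RedKL.exists_sub c (qq hc A).left
    (isPullback_qq hc A) (rdq_mul hc) j
  have hKl' := Groth.Agent.GrpSch.K269.RedKL.isKL_of_isPullback c (qq hc A).left (isPullback_qq hc A) (rdq_mul hc) hL
    hKl j' hclj' hfac'
  have hfin' : IsFinite Kl'.hom := MorphismProperty.of_isPullback hr' hfin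
  obtain ⟨P, DV, θV, io, r, T, B, _, _, χ, τ, π, n, eB, hsemi, hn, hrad, hform⟩ :=
    hV V (Red.bc v A) hAV hprop' L' hL' Kl' j' hj' hKl' hfin' Λ' hΛ' hΛc' D'
  let res : Spec (CommRingCat.of (IsLocalRing.ResidueField V)) ⟶ Spec (CommRingCat.of V) :=
    sp (IsLocalRing.residue V)
  let φ : R →+* IsLocalRing.ResidueField V := (IsLocalRing.residue V).comp φ₀
  have hw : sp φ = res ≫ v := (spp_comp φ₀ (IsLocalRing.residue V)).symm
  refine ⟨IsLocalRing.ResidueField V, inferInstance, halg, φ, r, T, B, inferInstance, inferInstance, χ,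
    τ ≫ inv (sg hw A), sg hw A ≫ π, n, eB, ker_eq φ₀, hsemi.transport (sg hw A), hn, hrad, ?_⟩
  intro N hN F _ f hf hflat E hE T' x y hx hy
  have hflat' : Flat (Red.bc v F ⊗ Red.bc v F).hom := by
    have h1 : Flat (Red.bc v F).hom := inferInstanceAs (Flat (pullback.snd F.hom v))
    rw [Over.tensorObj_hom]
    infer_instance
  have hinj' : ∀ a b : U (Red.bc v F ⊗ Red.bc v F),
      ures (dn k (𝟙 (Red.bc k (Red.bc v F ⊗ Red.bc v F)))) a = ures (dn k (𝟙 _)) b → a = b :=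
    fun a b h => ures_gen_inj (V := V) (K := FractionRing V) _ hflat' a b h
  have key := fun (x₁ y₁ : (Over.map v).obj ((Over.map res).obj T') ⟶ F) hx₁ hy₁ =>
    e_total hc hf E (θ N) hE (θV N) (θ' N) (pushU _) io io' hinj' x₁ y₁ hx₁ hy₁
  let x₁ : (Over.map v).obj ((Over.map res).obj T') ⟶ F := cw hw T' ≫ dn (sp φ) x
  let y₁ : (Over.map v).obj ((Over.map res).obj T') ⟶ F := cw hw T' ≫ dn (sp φ) y
  have hE1 : E.e (T := (Over.map (sp φ)).obj T') (dn (sp φ) x) (dn (sp φ) y) = E.e x₁ y₁ := by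
    refine Eq.symm ((E.nat (cw hw T') _ _).trans ?_)
    exact ures_cst _ _
  have hX : (x ≫ (Over.pullback (sp φ)).map f) ≫ sg hw A = upp res (upp v (x₁ ≫ f)) := map_sg hw f x
  have hY : (y ≫ (Over.pullback (sp φ)).map f) ≫ sg hw A = upp res (upp v (y₁ ≫ f)) := map_sg hw f y
  have hx₁ : upp v (x₁ ≫ f) ^ N = 1 := by rw [← upp_pow, pw hf, upp_one]
  have hy₁ : upp v (y₁ ≫ f) ^ N = 1 := by rw [← upp_pow, pw hf, upp_one]
  rw [hE1, key x₁ y₁ hx₁ hy₁]
  have dX : dn res ((x ≫ (Over.pullback (sp φ)).map f) ≫ sg hw A) = upp v (x₁ ≫ f) := by rw [hX, dn_upp]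
  have dY : dn res ((y ≫ (Over.pullback (sp φ)).map f) ≫ sg hw A) = upp v (y₁ ≫ f) := by rw [hY, dn_upp]
  have hXN : ((x ≫ (Over.pullback (sp φ)).map f) ≫ sg hw A) ^ N = 1 := by rw [hX, ← upp_pow, hx₁, upp_one]
  have hYN : ((y ≫ (Over.pullback (sp φ)).map f) ≫ sg hw A) ^ N = 1 := by rw [hY, ← upp_pow, hy₁, upp_one]
  have hx2 : (((x ≫ (Over.pullback (sp φ)).map f) ≫ sg hw A) ≫ π) ^ N = 1 := by rw [Category.assoc]; exact hx
  have hy2 : (((y ≫ (Over.pullback (sp φ)).map f) ≫ sg hw A) ≫ π) ^ N = 1 := by rw [Category.assoc]; exact hy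
  have h1 := hform N hN ((x ≫ (Over.pullback (sp φ)).map f) ≫ sg hw A)
    ((y ≫ (Over.pullback (sp φ)).map f) ≫ sg hw A) hXN hYN (by rw [dX]; exact hx₁) (by rw [dY]; exact hy₁) hx2 hy2
  have h2 : ∀ (a a' b b' : T' ⟶ B) (ha : a ^ N = 1) (ha' : a' ^ N = 1) (hb : b ^ N = 1) (hb' : b' ^ N = 1),
      a = a' → b = b' → (eB N).e a b ha hb = (eB N).e a' b' ha' hb' := by
    rintro a a' b b' ha ha' hb hb' rfl rfl
    rfl
  rw [h2 _ _ _ _ hx2 hx hy2 hy (Category.assoc _ _ _) (Category.assoc _ _ _)] at h1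
  rw [← h1]
  exact (θV N).e_congr' dX.symm dY.symm _ _

end K567.PackR
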