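import Groth.Agent.GrpSch.K267.LamSurj
import Groth.Agent.AgPol.K814.MumHom
import Groth.Agent.AbVar.K519.DualCalc
import Groth.Agent.AbDual.K732.DualField
import Groth.Agent.Grpsch.MulFin
import Groth.Agent.S0084
import Groth.Agent.Sga7.H756.GenBase

/-!
# A symmetric ample module on an abelian variety and its homomorphism to the dual

`exists_sym_lam`: over any field `κ`, for an abelian variety `A` with a dual `(At, φ)`, there is a symmetric invertible
module `L` whose homomorphism `lam : A ⟶ At` is a surjective homomorphism with finite kernel.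
-/

set_option autoImplicit false
universe u

open CategoryTheory CategoryTheory.Limits MonoidalCategory CartesianMonoidalCategory MonObj GrpObj
  AlgebraicGeometry

namespace K567.PolLam

open Groth.Agent Groth.Agent.Grpsch.PicGrp Groth.Agent.Grpsch.Cube Groth.Agent.Fga.RigGrp K732.Dual
  K732.PicZero K732.Prim K732.BC K732.RigSheaf K528.MumZero K267.LamSurj

variable {κ : Type u} [Field κ] {A At : Over (Spec (CommRingCat.of κ))} [GrpObj A] [GrpObj At]
  {φ : ∀ T, PicF.Cl (PicF.XT A.hom T) → (T ⟶ At)}

/-- The homomorphism of an ample class has finite kernel. -/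
theorem isFinite_lam (hD : AbDual.IsDualAV Scheme.fppfPrecoverage A At φ) [IsProper A.hom]
    [Smooth A.hom] [GeometricallyConnected A.hom] (L : A.left.Modules) (hL : CohB1.IsAmple L) :
    IsFinite (cm φ (mumCl A (mk L hL.1))).left := by
  let Ω : Type u := AlgebraicClosure κ
  let t : Spec (CommRingCat.of Ω) ⟶ Spec (CommRingCat.of κ) :=
    Spec.map (CommRingCat.ofHom (algebraMap κ Ω))
  have hD' := isDualAV_bc (k := t) hD
  have i1 : IsProper (Red.bc t A).hom := inferInstanceAs (IsProper (pullback.snd A.hom t))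
  have i2 : Smooth (Red.bc t A).hom := inferInstanceAs (Smooth (pullback.snd A.hom t))
  have i3 : GeometricallyConnected (Red.bc t A).hom :=
    inferInstanceAs (GeometricallyConnected (pullback.snd A.hom t))
  have i4 : GeometricallyIntegral (Red.bc t A).hom := K732.AV.geomInt _
  obtain ⟨c1, c2, c3, c4, -⟩ := K732.DualField.isAV (A := Red.bc t A) hD'
  have c5 : GeometricallyIntegral (Red.bc t At).hom := K732.AV.geomInt _
  have i5 : IsCommMonObj (Red.bc t A) := isCommMonObj_of_isProper_of_geometricallyIntegral _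
  have hLΩ : CohB1.IsAmple ((Scheme.Modules.pullback (pullback.fst A.hom t)).obj L) := by
    have h0 : IsAffineHom t := inferInstanceAs (IsAffineHom (Spec.map _))
    have : IsAffineHom (pullback.fst A.hom t) :=
      MorphismProperty.IsStableUnderBaseChange.of_isPullback (P := @IsAffineHom)
        (IsPullback.of_hasPullback A.hom t).flip h0
    exact Groth.Agent.Sga5.AmpleFib.isAmple_pullback _ hL
  have hmul : IsMonHom (cm (At := Red.bc t At) (AgPol.bcDual t A At φ)
      (mumCl (Red.bc t A) (mk _ hLΩ.1))) := K519.DualCalc.isMonHom_lam hD' _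
  have hqc : QuasiCompact (cm (At := Red.bc t At) (AgPol.bcDual t A At φ)
      (mumCl (Red.bc t A) (mk _ hLΩ.1))).left := Groth.Agent.Sga7.H756.RevIsog.quasiCompact_left Ω _
  have hfin : IsFinite (cm (At := Red.bc t At) (AgPol.bcDual t A At φ)
      (mumCl (Red.bc t A) (mk _ hLΩ.1))).left :=
    Groth.Agent.Sga3.H794.ChevKer.isFinite_of_finite_ker _ (K519.DualCalc.finite_ker hD' _ hLΩ)
  have e1 : (Over.pullback t).map (cm φ (mumCl A (mk L hL.1))) = cm (At := Red.bc t At) (AgPol.bcDual t A At φ)
      (mumCl (Red.bc t A) (mk _ hLΩ.1)) := by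
    rw [bc_lam t hD, pull_mk]
  have hsq := Sga7.H756.GenBase.isPullback_map t (cm φ (mumCl A (mk L hL.1)))
  rw [e1] at hsq
  have hdesc := S0084.result.{u}
  have s1 : Surjective t := inferInstance
  have s2 : Flat t := by
    change Flat (Spec.map _)
    rw [HasRingHomProperty.Spec_iff (P := @Flat)]
    exact (RingHom.flat_algebraMap_iff).mpr inferInstance
  have s3 : QuasiCompact t := inferInstance
  refine hdesc.of_isPullback hsq ⟨⟨?_, ?_⟩, ?_⟩ hfin
  · exact inferInstanceAs (Surjective (pullback.fst At.hom t))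
  · exact inferInstanceAs (Flat (pullback.fst At.hom t))
  · exact inferInstanceAs (QuasiCompact (pullback.fst At.hom t))

theorem exists_sym_lam (hD : AbDual.IsDualAV Scheme.fppfPrecoverage A At φ) [IsProper A.hom]
    [Smooth A.hom] [GeometricallyConnected A.hom] :
    ∃ (L : A.left.Modules) (_ : PicF.IsInvertible L) (lam : A ⟶ At),
      Nonempty ((Scheme.Modules.pullback (𝟙 A ^ (-1 : ℤ)).left).obj L ≅ L) ∧
      AgPol.IsLambda A At φ L lam ∧ IsMonHom lam ∧ IsFinite lam.left ∧ Surjective lam.left := by
  have gi := K732.AV.geomInt A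
  obtain ⟨c1, c2, c3, c4, -⟩ := K732.DualField.isAV hD
  obtain ⟨M, hM, hs⟩ := Groth.Agent.Grpsch.MulFin.exists_symm_ample A
  have hfin := isFinite_lam hD M hM
  refine ⟨M, hM.1, cm φ (mumCl A (mk M hM.1)), ?_, (K814.MumHom.isLambda_iff φ hM.1 _).2 rfl,
    isMonHom_lam hD _, hfin, surjective_lam hD _ fun N i hN =>
      MorphismProperty.of_isPullback (P := @IsFinite) (hN.map (Over.forget _)) hfin⟩
  have e : (𝟙 A ^ (-1 : ℤ) : A ⟶ A) = (𝟙 A)⁻¹ := by
    rw [zpow_neg, zpow_one]
  rw [e, ← mk_eq_iff (Groth.Agent.Fdesc.LocGen.isInvertible_pullback _ hM.1) hM.1]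
  exact hs

end K567.PolLam
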