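import Groth.Agent.GrpSch.K567.PolLam
import Groth.Agent.GrpSch.K567.DualExt
import Groth.Agent.Sga3C.GrpIrr

/-!
# S14301 from S14306

`of14306`: the conclusion of S14301 from the conclusion `H` of S14306 (for symmetric modules) for the same `S`, `A`.
-/

set_option autoImplicit false
universe u
open CategoryTheory CategoryTheory.Limits MonoidalCategory CartesianMonoidalCategory MonObj GrpObj AlgebraicGeometry

namespace K567.Row14301

open Groth.Agent

theorem of14306 {S : Scheme.{u}} [IsIntegral S] [IsLocallyNoetherian S]
    (A : Over S) [GrpObj A] [IsCommMonObj A] [Smooth A.hom] [IsSeparated A.hom] [QuasiCompact A.hom]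
    (hA : SGA7.FibresUnipotentRankZero A)
    (hprop : IsProper (Red.bc (S.fromSpecResidueField (genericPoint S)) A).hom)
    (hconn : ConnectedSpace ↥((Red.bc (S.fromSpecResidueField (genericPoint S)) A).left))
    (At : Over (Spec (S.residueField (genericPoint S)))) [GrpObj At] [IsCommMonObj At]
    (φ : AgPol.DualMap (Red.bc (S.fromSpecResidueField (genericPoint S)) A) At)
    (hdual : AbDual.IsDualAV Scheme.fppfPrecoverage (Red.bc (S.fromSpecResidueField (genericPoint S)) A) At φ)
    (H : ∀ (L : ((Red.bc (S.fromSpecResidueField (genericPoint S)) A).left).Modules), PicF.IsInvertible L →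
      Nonempty ((Scheme.Modules.pullback (𝟙 (Red.bc (S.fromSpecResidueField (genericPoint S)) A) ^ (-1 : ℤ)).left).obj L ≅ L) →
      ∀ (lam : Red.bc (S.fromSpecResidueField (genericPoint S)) A ⟶ At), AgPol.IsLambda (Red.bc (S.fromSpecResidueField (genericPoint S)) A) At φ L lam →
      (∀ (N : Over (Spec (S.residueField (genericPoint S)))) (j : N ⟶ Red.bc (S.fromSpecResidueField (genericPoint S)) A),
        AlgGrp.IsKernel j lam → IsFinite N.hom) →
      ∃ (K : Over S) (_ : GrpObj K) (i : K ⟶ A), IsMonHom i ∧ IsClosedImmersion i.left ∧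
        Flat K.hom ∧ LocallyQuasiFinite K.hom ∧
        AlgGrp.IsKernel ((Over.pullback (S.fromSpecResidueField (genericPoint S))).map i) lam) :
    ∃ (B : Over S) (_ : GrpObj B) (_ : IsCommMonObj B)
      (e : Red.bc (S.fromSpecResidueField (genericPoint S)) B ≅ At),
      IsMonHom e.hom ∧ Smooth B.hom ∧ IsSeparated B.hom ∧ QuasiCompact B.hom ∧
      SGA7.FibresUnipotentRankZero B ∧ ∀ s : S, ConnectedSpace ↥(B.hom.fiber s) := by
  have i1 : Smooth (Red.bc (S.fromSpecResidueField (genericPoint S)) A).hom :=
    inferInstanceAs (Smooth (pullback.snd A.hom (S.fromSpecResidueField (genericPoint S))))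
  have i2 : GeometricallyConnected (Red.bc (S.fromSpecResidueField (genericPoint S)) A).hom := by
    have hg : GrpObj (Over.mk (Red.bc (S.fromSpecResidueField (genericPoint S)) A).hom) :=
      (inferInstance : GrpObj (Red.bc (S.fromSpecResidueField (genericPoint S)) A))
    have h2 : GeometricallyIrreducible (Red.bc (S.fromSpecResidueField (genericPoint S)) A).hom :=
      Sga3C.GrpIrr.geometricallyIrreducible_of_connectedSpace
        (k := S.residueField (genericPoint S)) _
    refine ⟨fun K' _ y Z g1 g2 h => ?_⟩
    have h3 : IrreducibleSpace Z := h2.geometrically_irreducibleSpace y g1 g2 h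
    infer_instance
  obtain ⟨c1, c2, c3, c4, -⟩ := K732.DualField.isAV (k := S.residueField (genericPoint S))
    (A := Red.bc (S.fromSpecResidueField (genericPoint S)) A) (At := At) hdual
  obtain ⟨L, hL, lam, hs, hlam, hm, hfin, hsurj⟩ :=
    K567.PolLam.exists_sym_lam (κ := S.residueField (genericPoint S))
      (A := Red.bc (S.fromSpecResidueField (genericPoint S)) A) (At := At) hdual
  obtain ⟨K, gK, i, hi, hi1, hi2, hi3, hi4⟩ := H L hL hs lam hlam fun N j hj =>
      MorphismProperty.of_isPullback (P := @IsFinite) (hj.map (Over.forget _)) hfin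
  have hc : ConnectedSpace At.left := by
    have hg : GrpObj (Over.mk At.hom) := (inferInstance : GrpObj At)
    have h3 : ConnectedSpace ↥(pullback At.hom (𝟙 (Spec (S.residueField (genericPoint S))))) :=
      c4.geometrically_connectedSpace (K := S.residueField (genericPoint S)) (𝟙 _) _ _
        (IsPullback.of_hasPullback _ _)
    exact (Scheme.homeoOfIso (asIso (pullback.fst At.hom (𝟙 _)))).surjective.connectedSpace
      (Scheme.homeoOfIso (asIso (pullback.fst At.hom (𝟙 _)))).continuous
  exact K567.DualExt.main A hA i (k := S.residueField (genericPoint S))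
    (S.fromSpecResidueField (genericPoint S)) At lam hi4

end K567.Row14301
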